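import Cfsg.Agent.Lib.Helper28.Fi22Ord.C3159.ChkDefs

set_option autoImplicit false
set_option linter.unusedVariables false
set_option Elab.async false

namespace Cfsg.Agent.Lib.Helper28.Fi22Ord.C3159

open Cfsg.Agent.Lib.Helper28.Fi22Sub.P8 (Gen)
open Cfsg.Agent.Lib.Helper28.TC

noncomputable section

theorem closedP_blk0 : allRange (guard nn closedP) 8 (0 * 2 ^ 8) = true := by decide +kernel
theorem closedP_blk1 : allRange (guard nn closedP) 8 (1 * 2 ^ 8) = true := by decide +kernel
theorem closedP_blk2 : allRange (guard nn closedP) 8 (2 * 2 ^ 8) = true := by decide +kernel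
theorem closedP_blk3 : allRange (guard nn closedP) 8 (3 * 2 ^ 8) = true := by decide +kernel
theorem closedP_blk4 : allRange (guard nn closedP) 8 (4 * 2 ^ 8) = true := by decide +kernel
theorem closedP_blk5 : allRange (guard nn closedP) 8 (5 * 2 ^ 8) = true := by decide +kernel
theorem closedP_blk6 : allRange (guard nn closedP) 8 (6 * 2 ^ 8) = true := by decide +kernel
theorem closedP_blk7 : allRange (guard nn closedP) 8 (7 * 2 ^ 8) = true := by decide +kernel
theorem closedP_blk8 : allRange (guard nn closedP) 8 (8 * 2 ^ 8) = true := by decide +kernel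
theorem closedP_blk9 : allRange (guard nn closedP) 8 (9 * 2 ^ 8) = true := by decide +kernel
theorem closedP_blk10 : allRange (guard nn closedP) 8 (10 * 2 ^ 8) = true := by decide +kernel
theorem closedP_blk11 : allRange (guard nn closedP) 8 (11 * 2 ^ 8) = true := by decide +kernel
theorem closedP_blk12 : allRange (guard nn closedP) 8 (12 * 2 ^ 8) = true := by decide +kernel
theorem closedP_f0 : ∀ k, 0 ≤ k → k < 13 → allRange (guard nn closedP) 8 (k * 2 ^ 8) = true := by
  intro k h1 h2
  interval_cases k
  · exact closedP_blk0
  · exact closedP_blk1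
  · exact closedP_blk2
  · exact closedP_blk3
  · exact closedP_blk4
  · exact closedP_blk5
  · exact closedP_blk6
  · exact closedP_blk7
  · exact closedP_blk8
  · exact closedP_blk9
  · exact closedP_blk10
  · exact closedP_blk11
  · exact closedP_blk12

end

end Cfsg.Agent.Lib.Helper28.Fi22Ord.C3159
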